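import Groth.Agent.Lib.SecComp6.Univ.Noeth
import Groth.Prelude.Def_FDesc

/-!
# Components through a section: universally open and geometrically reduced components
-/

set_option autoImplicit false
set_option linter.style.haveILetI false

universe u

open CategoryTheory CategoryTheory.Limits AlgebraicGeometry TopologicalSpace Topology

namespace GrothLib.SecComp6

theorem isReduced_stalk_of_geomReducedAt {X Y : Scheme.{u}} (f : X ⟶ Y) {K : Type u} [Field K]
    (t : Spec (CommRingCat.of K) ⟶ Y) (w : ↥(pullback f t)) {x : X} (hw : pullback.fst f t w = x)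
    (h : FBase.IsGeomReducedAt (f.fiberToSpecResidueField (f x)) (f.asFiber x)) :
    _root_.IsReduced ((pullback f t).presheaf.stalk w) := by
  subst hw
  have hpt : GeomRed6.pt t = f (pullback.fst f t w) := by
    rw [← Scheme.Hom.comp_apply, pullback.condition, Scheme.Hom.comp_apply]
    haveI : Subsingleton (Spec (CommRingCat.of K)) := inferInstanceAs (Subsingleton (PrimeSpectrum K))
    exact congrArg t (Subsingleton.elim _ _)
  obtain ⟨σ', π, hπ, hπι⟩ : ∃ (σ' : Spec (CommRingCat.of K) ⟶ Spec (Y.residueField (f (pullback.fst f t w))))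
      (π : pullback f t ⟶ f.fiber (f (pullback.fst f t w))),
      IsPullback π (pullback.snd f t) (f.fiberToSpecResidueField _) σ' ∧ π ≫ f.fiberι _ = pullback.fst f t := by
    obtain ⟨σ', hσ'⟩ : ∃ σ', σ' ≫ Y.fromSpecResidueField (f (pullback.fst f t w)) = t := by
      rw [← hpt]; exact GeomRed6.exists_factor t
    let π : pullback f t ⟶ f.fiber (f (pullback.fst f t w)) :=
      pullback.lift (pullback.fst f t) (pullback.snd f t ≫ σ')
        (by rw [Category.assoc, hσ', pullback.condition])
    refine ⟨σ', π, IsPullback.of_right ?_ (pullback.lift_snd _ _ _) (IsPullback.of_hasPullback _ _), pullback.lift_fst _ _ _⟩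
    rw [show π ≫ pullback.fst f (Y.fromSpecResidueField _) = pullback.fst f t from pullback.lift_fst _ _ _, hσ']
    exact IsPullback.of_hasPullback f t
  obtain ⟨φ, rfl⟩ := Spec.map_surjective σ'
  letI : Algebra (IsLocalRing.ResidueField (Y.presheaf.stalk (f (pullback.fst f t w)))) K := φ.hom.toAlgebra
  let k := (hπ.isoPullback).hom
  have hπw : π w = f.asFiber (pullback.fst f t w) := (f.fiberι _).isEmbedding.injective (by
    rw [← Scheme.Hom.comp_apply, hπι, Scheme.Hom.fiberι_asFiber])
  haveI : _root_.IsReduced ((pullback (f.fiberToSpecResidueField (f (pullback.fst f t w))) (Spec.map φ)).presheaf.stalk (k w)) :=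
    h K (k w) ((congrArg (fun q : pullback f t ⟶ _ => q w) hπ.isoPullback_hom_fst).trans hπw)
  exact isReduced_stalk_of_openImmersion k w

theorem sectionComponents_nhd_univ {X Y : Scheme.{u}} [IsLocallyNoetherian Y] (f : X ⟶ Y)
    [LocallyOfFiniteType f] (g : Y ⟶ X) (hg : g ≫ f = 𝟙 Y) (y : Y)
    (h : ∀ x ∈ connectedComponentIn (f ⁻¹' {y}) (g y), EGA43.IsUnivOpenAt f x ∧
      FBase.IsGeomReducedAt (f.fiberToSpecResidueField (f x)) (f.asFiber x)) :
    connectedComponentIn (f ⁻¹' {y}) (g y) ⊆ interior (MoreMor.sectionComponents f g) :=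
  component_subset_interior_univ f g hg y (fun x hx => (h x hx).1)
    fun _ _ t w hw => isReduced_stalk_of_geomReducedAt f t w rfl (h _ hw).2

theorem isOpen_sectionComponents_univ {X Y : Scheme.{u}} [IsLocallyNoetherian Y] (f : X ⟶ Y)
    [LocallyOfFiniteType f] [UniversallyOpen f] (g : Y ⟶ X) (hg : g ≫ f = 𝟙 Y)
    (h : ∀ x ∈ MoreMor.sectionComponents f g,
      FBase.IsGeomReducedAt (f.fiberToSpecResidueField (f x)) (f.asFiber x)) :
    IsOpen (MoreMor.sectionComponents f g) := by
  rw [← subset_interior_iff_isOpen]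
  intro x hx
  refine sectionComponents_nhd_univ f g hg (f x) (fun z hz => ⟨fun Y' k p _ U hU => ?_, h z ?_⟩) hx
  · haveI : UniversallyOpen (pullback.snd f k) := MorphismProperty.pullback_snd f k ‹_›
    exact (pullback.snd f k).isOpenMap.image_mem_nhds hU
  · show z ∈ connectedComponentIn (f ⁻¹' {f z}) (g (f z))
    rw [show f z = f x from (connectedComponentIn_subset (f ⁻¹' {f x}) (g (f x))) hz]
    exact hz

end GrothLib.SecComp6
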