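import Groth.Agent.Lib.SecComp6.Dvr
import Groth.Agent.Lib.SecComp6.BaseChange

/-!
# Components through a section over a discrete valuation ring, without flatness
-/

set_option autoImplicit false
set_option linter.style.haveILetI false

universe u

open CategoryTheory CategoryTheory.Limits AlgebraicGeometry TopologicalSpace Topology TensorProduct

namespace GrothLib.SecComp6

/-- A scheme with an open immersion has reduced local rings where the target does. -/
theorem isReduced_stalk_of_openImmersion {A B : Scheme.{u}} (k : A ⟶ B) [IsOpenImmersion k] (z : A)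
    [_root_.IsReduced (B.presheaf.stalk (k z))] : _root_.IsReduced (A.presheaf.stalk z) :=
  isReduced_of_injective (inv (k.stalkMap z)).hom (ConcreteCategory.bijective_of_isIso _).1

theorem isOpen_connectedComponent_noetherian {T : Type u} [TopologicalSpace T] [NoetherianSpace T] (a : T) :
    IsOpen (connectedComponent a) := by
  refine isOpen_iff_forall_mem_open.2 fun z hz => ?_
  refine ⟨(⋃ Z ∈ {Z ∈ irreducibleComponents T | z ∉ Z}, Z)ᶜ, fun w hw => ?_,
    (Set.Finite.isClosed_biUnion (NoetherianSpace.finite_irreducibleComponents.subset fun Z hZ => hZ.1)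
      fun Z hZ => isClosed_of_mem_irreducibleComponents Z hZ.1).isOpen_compl, fun hmem => ?_⟩
  · have hzw : z ∈ irreducibleComponent w := by
      by_contra hc
      exact hw (Set.mem_biUnion (x := irreducibleComponent w)
        ⟨irreducibleComponent_mem_irreducibleComponents w, hc⟩ mem_irreducibleComponent)
    rw [connectedComponent_eq hz]
    exact isIrreducible_irreducibleComponent.isConnected.subset_connectedComponent hzw mem_irreducibleComponent
  · obtain ⟨Z, hZ, hzZ⟩ := Set.mem_iUnion₂.1 hmem
    exact hZ.2 hzZ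

/-- `disjoint_closure_spec` with density of the generic fibre instead of regularity of `p`. -/
theorem disjoint_closure_spec_of_dense {B : Type u} [CommRing B] {p : B}
    (hred : _root_.IsReduced (B ⧸ Ideal.span {p}))
    (hdense : PrimeSpectrum.zeroLocus {p} ⊆ closure (PrimeSpectrum.basicOpen p : Set (PrimeSpectrum B)))
    {C R : Set (PrimeSpectrum B)} (hC : IsOpen C) (hR : IsOpen R) (hdisj : Disjoint C R)
    (hunion : C ∪ R = (PrimeSpectrum.basicOpen p : Set (PrimeSpectrum B))) :
    Disjoint (closure C) (closure R) := by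
  let T : Ideal B := RingHom.ker (algebraMap B (Localization.Away p))
  have hmemT : ∀ b, b ∈ T ↔ ∃ n, p ^ n * b = 0 := fun b => by
    rw [RingHom.mem_ker, IsLocalization.map_eq_zero_iff (Submonoid.powers p)]
    exact ⟨fun ⟨⟨_, n, rfl⟩, h⟩ => ⟨n, h⟩, fun ⟨n, h⟩ => ⟨⟨_, n, rfl⟩, h⟩⟩
  have hDT : (PrimeSpectrum.basicOpen p : Set (PrimeSpectrum B)) ⊆ PrimeSpectrum.zeroLocus (T : Set B) := by
    intro q hq b hb
    obtain ⟨n, hn⟩ := (hmemT b).1 hb
    exact (q.2.mem_or_mem (hn ▸ q.asIdeal.zero_mem)).resolve_left fun h => hq (q.2.mem_of_pow_mem n h)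
  have hrad : (Ideal.span {p}).IsRadical := (Ideal.isRadical_iff_quotient_reduced _).2 hred
  have hT : T ≤ Ideal.span {p} := by
    refine le_trans ?_ hrad
    rw [← PrimeSpectrum.zeroLocus_subset_zeroLocus_iff, PrimeSpectrum.zeroLocus_span]
    exact hdense.trans (closure_minimal hDT (PrimeSpectrum.isClosed_zeroLocus _))
  let π := Ideal.Quotient.mk T
  have hp : ∀ b, π p * b = 0 → b = 0 := fun b hb => by
    obtain ⟨b, rfl⟩ := Ideal.Quotient.mk_surjective b
    rw [← map_mul, Ideal.Quotient.eq_zero_iff_mem, hmemT] at hb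
    obtain ⟨n, hn⟩ := hb
    rw [Ideal.Quotient.eq_zero_iff_mem, hmemT]
    exact ⟨n + 1, by rw [pow_succ, mul_assoc]; exact hn⟩
  have hq : _root_.IsReduced ((B ⧸ T) ⧸ Ideal.span {π p}) := by
    rw [← Ideal.isRadical_iff_quotient_reduced]
    rintro x ⟨n, hn⟩
    obtain ⟨x, rfl⟩ := Ideal.Quotient.mk_surjective x
    obtain ⟨c, hc⟩ := Ideal.mem_span_singleton.1 hn
    obtain ⟨c, rfl⟩ := Ideal.Quotient.mk_surjective c
    rw [← map_pow, ← map_mul, Ideal.Quotient.eq] at hc
    have : x ^ n ∈ Ideal.span {p} := by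
      have := Ideal.add_mem _ (hT hc) (Ideal.mul_mem_right c _ (Ideal.mem_span_singleton_self p))
      rwa [sub_add_cancel] at this
    obtain ⟨d, hd⟩ := Ideal.mem_span_singleton.1 (hrad ⟨n, this⟩)
    exact Ideal.mem_span_singleton.2 ⟨π d, by rw [← map_mul, ← hd]⟩
  let c := PrimeSpectrum.comap π
  have hemb : IsClosedEmbedding c :=
    PrimeSpectrum.isClosedEmbedding_comap_of_surjective _ _ Ideal.Quotient.mk_surjective
  have hrange : Set.range c = PrimeSpectrum.zeroLocus (T : Set B) := by
    rw [range_comap_of_surjective _ _ Ideal.Quotient.mk_surjective, Ideal.mk_ker]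
  have him : ∀ {S : Set (PrimeSpectrum B)}, S ⊆ (PrimeSpectrum.basicOpen p : Set (PrimeSpectrum B)) →
      closure S = c '' closure (c ⁻¹' S) := fun {S} hS => by
    rw [← hemb.closure_image_eq, Set.image_preimage_eq_of_subset (hrange ▸ hS.trans hDT)]
  rw [him (hunion ▸ Set.subset_union_left), him (hunion ▸ Set.subset_union_right)]
  exact Set.disjoint_image_of_injective hemb.injective
    (disjoint_closure_spec hp hq (hC.preimage hemb.continuous) (hR.preimage hemb.continuous) (hdisj.preimage _)
      ((congrArg (c ⁻¹' ·) hunion).trans rfl))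

variable {D : Type u} [CommRing D] [IsDomain D] [IsDiscreteValuationRing D] {X : Scheme.{u}}

theorem eq_closed_of_ne_gen (q : Spec (CommRingCat.of D))
    (hq : q ≠ HTop.gen (CommRingCat.of D)) : q = HTop.closed (CommRingCat.of D) := by
  refine PrimeSpectrum.ext (IsLocalRing.eq_maximalIdeal (q.2.isMaximal fun h => hq ?_))
  exact PrimeSpectrum.ext h

/-- Over a discrete valuation ring, generizations of the component through a section stay in the
component as soon as the generic fibre is dense at the special component and the special fibre is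
reduced along it. -/
theorem generization_mem_sectionComponents_dense (g : X ⟶ Spec (CommRingCat.of D))
    [LocallyOfFiniteType g] [QuasiCompact g] (ϖ : D) (hϖ : Irreducible ϖ)
    (σ : Spec (CommRingCat.of D) ⟶ X) (hσ : σ ≫ g = 𝟙 _)
    (hdense : ∀ z ∈ connectedComponentIn (g ⁻¹' {HTop.closed (CommRingCat.of D)}) (σ (HTop.closed (CommRingCat.of D))),
      z ∈ closure (g ⁻¹' {HTop.gen (CommRingCat.of D)}))
    (hred : ∀ w : ↥(pullback g (Spec.map (CommRingCat.ofHom (Ideal.Quotient.mk (Ideal.span {ϖ}))))),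
      pullback.fst g (Spec.map (CommRingCat.ofHom (Ideal.Quotient.mk (Ideal.span {ϖ})))) w ∈
        connectedComponentIn (g ⁻¹' {HTop.closed (CommRingCat.of D)}) (σ (HTop.closed (CommRingCat.of D))) →
      _root_.IsReduced ((pullback g (Spec.map (CommRingCat.ofHom (Ideal.Quotient.mk (Ideal.span {ϖ}))))).presheaf.stalk w))
    {x₁ x₁' : X} (hsp : x₁' ⤳ x₁) (hgen : g x₁' = HTop.gen (CommRingCat.of D))
    (hx₁ : x₁ ∈ connectedComponentIn (g ⁻¹' {HTop.closed (CommRingCat.of D)}) (σ (HTop.closed (CommRingCat.of D)))) :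
    x₁' ∈ MoreMor.sectionComponents g σ := by
  classical
  let η := HTop.gen (CommRingCat.of D)
  let c := HTop.closed (CommRingCat.of D)
  let P := connectedComponentIn (g ⁻¹' {c}) (σ c)
  have hop : IsOpen ({η} : Set (Spec (CommRingCat.of D))) := by
    have heq : ({η} : Set (Spec (CommRingCat.of D))) = (PrimeSpectrum.basicOpen ϖ : Set (PrimeSpectrum D)) :=
      Set.ext fun q => eq_gen_iff ϖ hϖ q
    exact heq ▸ (PrimeSpectrum.basicOpen ϖ).2
  haveI hn : ∀ q, NoetherianSpace (g.fiber q) := fun q => by
    haveI : LocallyOfFiniteType (g.fiberToSpecResidueField q) := MorphismProperty.pullback_snd g _ inferInstance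
    haveI : IsLocallyNoetherian (g.fiber q) := LocallyOfFiniteType.isLocallyNoetherian (g.fiberToSpecResidueField q)
    haveI : CompactSpace (g.fiber q) := QuasiCompact.compactSpace_of_compactSpace (g.fiberToSpecResidueField q)
    haveI : AlgebraicGeometry.IsNoetherian (g.fiber q) := {}
    infer_instance
  have hσq : ∀ q, g (σ q) = q := fun q => by rw [← Scheme.Hom.comp_apply, hσ]; rfl
  obtain ⟨b, hb⟩ := (g.range_fiberι c).ge (hσq c)
  have hP : P = g.fiberι c '' connectedComponent b := by
    show connectedComponentIn (g ⁻¹' {c}) (σ c) = _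
    rw [← hb, ← g.range_fiberι c, connectedComponentIn_range (g.fiberι c).isEmbedding]
  obtain ⟨O, hO, hOP⟩ := (g.fiberι c).isEmbedding.isInducing.isOpen_iff.1 (isOpen_connectedComponent_noetherian b)
  obtain ⟨a, ha⟩ := (g.range_fiberι η).ge (hσq η)
  have hopen : IsOpenMap (g.fiberι η) := by
    refine ((g.fiberι η).isEmbedding.toIsInducing.isOpenMap ?_)
    rw [g.range_fiberι η]
    exact hop.preimage g.continuous
  let C₀ : Set (g.fiber η) := connectedComponent a
  let C : Set X := g.fiberι η '' C₀
  let R : Set X := g.fiberι η '' C₀ᶜ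
  have hC : IsOpen C := hopen _ (isOpen_connectedComponent_noetherian a)
  have hR : IsOpen R := hopen _ isClosed_connectedComponent.isOpen_compl
  have hdisj : Disjoint C R := Set.disjoint_image_of_injective (g.fiberι η).isEmbedding.injective disjoint_compl_right
  have hunion : C ∪ R = g ⁻¹' {η} := by
    rw [← Set.image_union, Set.union_compl_self, Set.image_univ, g.range_fiberι η]
  have hcover : ∀ z ∈ P, z ∈ closure C ∪ closure R := fun z hz => by
    rw [← closure_union, hunion]
    exact hdense z hz
  have hd : ∀ z ∈ P, z ∈ closure C → z ∉ closure R := by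
    intro z hz hzC hzR
    obtain ⟨q₀, hq₀, rfl⟩ := hP.le hz
    obtain ⟨_, ⟨(W : X.Opens), hW, rfl⟩, hxW, hWO⟩ := X.isBasis_affineOpens.exists_subset_of_mem_open
      (hOP.ge hq₀) hO
    obtain ⟨φ, hφ⟩ := Spec.map_surjective (hW.fromSpec ≫ g)
    letI : Algebra D Γ(X, W) := φ.hom.toAlgebra
    let p := algebraMap D Γ(X, W) ϖ
    have hgen' : ∀ q, g (hW.fromSpec q) = η ↔ q ∈ PrimeSpectrum.basicOpen p := by
      intro q
      rw [← Scheme.Hom.comp_apply, ← hφ, eq_gen_iff ϖ hϖ]
      exact Iff.rfl
    have hWP : ∀ q, g (hW.fromSpec q) ≠ η → hW.fromSpec q ∈ P := fun q hq => by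
      have hgc := eq_closed_of_ne_gen _ hq
      obtain ⟨r, hr⟩ := (g.range_fiberι c).ge (show hW.fromSpec q ∈ g ⁻¹' {c} from hgc)
      rw [← hr]
      refine hP.ge ⟨r, hOP.le (show g.fiberι c r ∈ O from ?_), rfl⟩
      rw [hr]
      exact hWO (hW.range_fromSpec.le ⟨q, rfl⟩)
    let t := Spec.map (CommRingCat.ofHom (Ideal.Quotient.mk (Ideal.span {ϖ})))
    let k : pullback (Spec.map φ) t ⟶ pullback g t :=
      pullback.lift (pullback.fst (Spec.map φ) t ≫ hW.fromSpec) (pullback.snd (Spec.map φ) t)
        (by rw [Category.assoc, ← hφ, pullback.condition])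
    have sq : IsPullback (pullback.fst (Spec.map φ) t) k hW.fromSpec (pullback.fst g t) := by
      refine IsPullback.of_bot ?_ (pullback.lift_fst _ _ _).symm (IsPullback.of_hasPullback g t)
      rw [pullback.lift_snd, ← hφ]
      exact IsPullback.of_hasPullback _ _
    haveI : IsOpenImmersion k := MorphismProperty.of_isPullback sq (inferInstance : IsOpenImmersion hW.fromSpec)
    haveI : ∀ w, _root_.IsReduced ((pullback (Spec.map φ) t).presheaf.stalk w) := fun w => by
      haveI : _root_.IsReduced ((pullback g t).presheaf.stalk (k w)) := by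
        refine hred _ ?_
        rw [← Scheme.Hom.comp_apply, pullback.lift_fst, Scheme.Hom.comp_apply]
        refine hWP _ fun he => ?_
        rw [← Scheme.Hom.comp_apply, ← hφ, ← Scheme.Hom.comp_apply, pullback.condition, Scheme.Hom.comp_apply,
          eq_gen_iff ϖ hϖ] at he
        refine he ?_
        show ϖ ∈ Ideal.comap (Ideal.Quotient.mk (Ideal.span {ϖ})) _
        rw [Ideal.mem_comap, Ideal.Quotient.eq_zero_iff_mem.2 (Ideal.mem_span_singleton_self ϖ)]
        exact Ideal.zero_mem _
      exact isReduced_stalk_of_openImmersion k w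
    have hredW : IsReduced (pullback (Spec.map φ) t) := isReduced_of_isReduced_stalk _
    have hq : _root_.IsReduced (Γ(X, W) ⧸ Ideal.span {p}) := by
      haveI h1 : IsReduced (Spec (CommRingCat.of (Γ(X, W) ⊗[D] (D ⧸ Ideal.span {ϖ})))) :=
        haveI := hredW
        isReduced_of_isOpenImmersion (pullbackSpecIso D Γ(X, W) (D ⧸ Ideal.span {ϖ})).inv
      haveI h2 : _root_.IsReduced (Γ(X, W) ⊗[D] (D ⧸ Ideal.span {ϖ})) := affine_isReduced_iff _ |>.1 h1
      let e := Algebra.TensorProduct.quotIdealMapEquivTensorQuot Γ(X, W) (Ideal.span {ϖ})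
      rw [show Ideal.span {p} = (Ideal.span {ϖ}).map (algebraMap D Γ(X, W)) by
        rw [Ideal.map_span, Set.image_singleton]]
      exact isReduced_of_injective e e.injective
    have e := fun T : Set X => hW.fromSpec.isOpenEmbedding.isOpenMap.preimage_closure_eq_closure_preimage
      hW.fromSpec.continuous T
    have hpre : ⇑hW.fromSpec ⁻¹' (g ⁻¹' {η}) = (PrimeSpectrum.basicOpen p : Set (PrimeSpectrum Γ(X, W))) :=
      Set.ext fun q => hgen' q
    have hdense' : PrimeSpectrum.zeroLocus {p} ⊆ closure (PrimeSpectrum.basicOpen p : Set (PrimeSpectrum Γ(X, W))) := by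
      intro q hq
      rw [← hpre]
      refine (e _).le (hdense _ (hWP q fun h => ?_))
      exact (hgen' q).1 h (hq rfl)
    have hdis := disjoint_closure_spec_of_dense hq hdense' (hC.preimage hW.fromSpec.continuous)
      (hR.preimage hW.fromSpec.continuous) (hdisj.preimage _)
      ((congrArg (⇑hW.fromSpec ⁻¹' ·) hunion).trans hpre)
    obtain ⟨q, hq'⟩ := hW.range_fromSpec.ge hxW
    rw [← hq'] at hzC hzR
    exact Set.disjoint_left.1 hdis ((e C).le hzC) ((e R).le hzR)
  have hηc : η ⤳ c := (PrimeSpectrum.le_iff_specializes η c).1 bot_le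
  have hσc : σ c ∈ closure C :=
    (hηc.map σ.continuous).mem_closed isClosed_closure (subset_closure ⟨a, mem_connectedComponent, ha⟩)
  have hx₁C : x₁ ∈ closure C := by
    rcases hcover x₁ hx₁ with h | h
    · exact h
    obtain ⟨y, hy, hyC, hyR⟩ := isPreconnected_closed_iff.1 isPreconnected_connectedComponentIn (closure C) (closure R)
      isClosed_closure isClosed_closure hcover
      ⟨_, mem_connectedComponentIn (show σ c ∈ g ⁻¹' {c} from hσq c), hσc⟩ ⟨x₁, hx₁, h⟩
    exact absurd hyR (hd y hy hyC)
  have hx₁' : x₁' ∈ C := by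
    rcases hunion.ge (show x₁' ∈ g ⁻¹' {η} from hgen) with h | h
    · exact h
    · exact absurd (hsp.mem_closed isClosed_closure (subset_closure h)) (hd x₁ hx₁ hx₁C)
  show x₁' ∈ connectedComponentIn (g ⁻¹' {g x₁'}) (σ (g x₁'))
  rw [hgen]
  exact (isPreconnected_connectedComponent.image _ (g.fiberι η).continuous.continuousOn).subset_connectedComponentIn
    ⟨a, mem_connectedComponent, ha⟩ (by rintro _ ⟨z, -, rfl⟩; exact (g.range_fiberι η).le ⟨z, rfl⟩) hx₁'

end GrothLib.SecComp6
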