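import Groth.Agent.Lib.SecComp6.Univ.Dvr
import Groth.Agent.Lib.SecComp6.Smooth
import Groth.Agent.Lib.OpenAt.Basic

/-!
# Components through a section at a universally open, geometrically reduced component
-/

set_option autoImplicit false
set_option linter.style.haveILetI false

universe u

open CategoryTheory CategoryTheory.Limits AlgebraicGeometry TopologicalSpace Topology

namespace GrothLib.SecComp6

theorem component_subset_interior_univ_noetherian {X Y : Scheme.{u}} (f : X ⟶ Y) (s : Y ⟶ X) (hs : s ≫ f = 𝟙 Y)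
    [LocallyOfFiniteType f] [QuasiCompact f] [AlgebraicGeometry.IsNoetherian Y] [AlgebraicGeometry.IsNoetherian X]
    (y : Y) (hA : ∀ x ∈ connectedComponentIn (f ⁻¹' {y}) (s y), EGA43.IsUnivOpenAt f x)
    (hB : ∀ (K : Type u) [Field K] (t : Spec (CommRingCat.of K) ⟶ Y) (w : ↥(pullback f t)),
      pullback.fst f t w ∈ connectedComponentIn (f ⁻¹' {y}) (s y) → _root_.IsReduced ((pullback f t).presheaf.stalk w)) :
    connectedComponentIn (f ⁻¹' {y}) (s y) ⊆ interior (MoreMor.sectionComponents f s) := by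
  intro x hx
  have hfx : f x = y := (connectedComponentIn_subset (f ⁻¹' {y}) (s y)) hx
  rw [interior_eq_compl_closure_compl]
  intro hcl
  haveI : SpectralSpace X := {}
  obtain ⟨e, he, hsp⟩ := SpecSp.exists_specializes_of_mem_closure
    (Constr.isClosed_constructibleTopology_of_isConstructible (isConstructible_noetherian f s hs).compl) hcl
  obtain ⟨D, _, _, _, h, hgen, hclosed⟩ := SubtrLim.exists_dvr_map hsp
  let t := h ≫ f
  let g := pullback.snd f t
  haveI : LocallyOfFiniteType g := MorphismProperty.pullback_snd f t inferInstance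
  haveI : QuasiCompact g := MorphismProperty.pullback_snd f t inferInstance
  let σ : Spec (CommRingCat.of D) ⟶ pullback f t := pullback.lift (t ≫ s) (𝟙 _)
    (by rw [Category.assoc, hs, Category.comp_id, Category.id_comp])
  let τ : Spec (CommRingCat.of D) ⟶ pullback f t := pullback.lift h (𝟙 _) (Category.id_comp _).symm
  have hsec := sectionComponents_baseChange f s hs g (pullback.fst f t) t (IsPullback.of_hasPullback f t) σ
    (pullback.lift_snd _ _ _) (pullback.lift_fst _ _ _)
  have htc : t (HTop.closed (CommRingCat.of D)) = y := by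
    rw [Scheme.Hom.comp_apply, show h (HTop.closed (CommRingCat.of D)) = x from hclosed, hfx]
  have hmap : ∀ z ∈ connectedComponentIn (g ⁻¹' {HTop.closed (CommRingCat.of D)}) (σ (HTop.closed (CommRingCat.of D))),
      pullback.fst f t z ∈ connectedComponentIn (f ⁻¹' {y}) (s y) := by
    intro z hz
    have hgz : g z = HTop.closed (CommRingCat.of D) :=
      (connectedComponentIn_subset (g ⁻¹' {HTop.closed (CommRingCat.of D)}) _) hz
    have hzE : z ∈ MoreMor.sectionComponents g σ := by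
      show z ∈ connectedComponentIn (g ⁻¹' {g z}) (σ (g z))
      rw [hgz]; exact hz
    rw [hsec] at hzE
    have hfz : f (pullback.fst f t z) = y := by
      rw [← Scheme.Hom.comp_apply, pullback.condition, Scheme.Hom.comp_apply]
      exact (congrArg t hgz).trans htc
    have h0 : pullback.fst f t z ∈ connectedComponentIn (f ⁻¹' {f (pullback.fst f t z)}) (s (f (pullback.fst f t z))) := hzE
    rwa [hfz] at h0
  obtain ⟨ϖ, hϖ⟩ := IsDiscreteValuationRing.exists_irreducible D
  have hdense : ∀ z ∈ connectedComponentIn (g ⁻¹' {HTop.closed (CommRingCat.of D)}) (σ (HTop.closed (CommRingCat.of D))),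
      z ∈ closure (g ⁻¹' {HTop.gen (CommRingCat.of D)}) := by
    intro z hz
    rw [mem_closure_iff_nhds]
    intro U hU
    have ho := OpenAt.isOpenAt_of_isPullback (hA _ (hmap z hz)) (IsPullback.of_hasPullback f t) z rfl U hU
    rw [show (pullback.snd f t).base z = HTop.closed (CommRingCat.of D) from
      (connectedComponentIn_subset (g ⁻¹' {HTop.closed (CommRingCat.of D)}) _) hz] at ho
    obtain ⟨u, hu, hgu⟩ := mem_of_mem_nhds
      (((PrimeSpectrum.le_iff_specializes (HTop.gen (CommRingCat.of D)) (HTop.closed (CommRingCat.of D))).1 bot_le) ho)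
    exact ⟨u, hu, hgu⟩
  have hred : ∀ w : ↥(pullback g (Spec.map (CommRingCat.ofHom (Ideal.Quotient.mk (Ideal.span {ϖ}))))),
      pullback.fst g (Spec.map (CommRingCat.ofHom (Ideal.Quotient.mk (Ideal.span {ϖ})))) w ∈
        connectedComponentIn (g ⁻¹' {HTop.closed (CommRingCat.of D)}) (σ (HTop.closed (CommRingCat.of D))) →
      _root_.IsReduced ((pullback g (Spec.map (CommRingCat.ofHom (Ideal.Quotient.mk (Ideal.span {ϖ}))))).presheaf.stalk w) := by
    intro w hw
    haveI hmax : (Ideal.span {ϖ}).IsMaximal := hϖ.maximalIdeal_eq ▸ IsLocalRing.maximalIdeal.isMaximal D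
    letI : Field (D ⧸ Ideal.span {ϖ}) := Ideal.Quotient.field _
    let t₀ := Spec.map (CommRingCat.ofHom (Ideal.Quotient.mk (Ideal.span {ϖ})))
    let k := (pullbackLeftPullbackSndIso f t t₀).hom
    haveI : _root_.IsReduced ((pullback f (t₀ ≫ t)).presheaf.stalk (k w)) := by
      refine hB _ _ _ ?_
      rw [← Scheme.Hom.comp_apply, show k ≫ pullback.fst f (t₀ ≫ t) = pullback.fst _ _ ≫ pullback.fst f t from
        pullbackLeftPullbackSndIso_hom_fst f t t₀, Scheme.Hom.comp_apply]
      exact hmap _ hw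
    exact isReduced_stalk_of_openImmersion k w
  have hspτ : τ (HTop.gen (CommRingCat.of D)) ⤳ τ (HTop.closed (CommRingCat.of D)) :=
    ((PrimeSpectrum.le_iff_specializes (HTop.gen (CommRingCat.of D)) (HTop.closed (CommRingCat.of D))).1 bot_le).map
      τ.continuous
  have hgτ : ∀ q, g (τ q) = q := fun q => by
    rw [← Scheme.Hom.comp_apply, pullback.lift_snd]; rfl
  have hmem : τ (HTop.closed (CommRingCat.of D)) ∈ MoreMor.sectionComponents g σ := by
    rw [hsec]
    show pullback.fst f t (τ _) ∈ connectedComponentIn (f ⁻¹' {f (pullback.fst f t (τ _))}) (s (f (pullback.fst f t (τ _))))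
    rw [show pullback.fst f t (τ (HTop.closed (CommRingCat.of D))) = x by
      rw [← Scheme.Hom.comp_apply, pullback.lift_fst]; exact hclosed, hfx]
    exact hx
  have hmem' : τ (HTop.closed (CommRingCat.of D)) ∈
      connectedComponentIn (g ⁻¹' {HTop.closed (CommRingCat.of D)}) (σ (HTop.closed (CommRingCat.of D))) := by
    have h0 : τ (HTop.closed (CommRingCat.of D)) ∈
      connectedComponentIn (g ⁻¹' {g (τ (HTop.closed (CommRingCat.of D)))}) (σ (g (τ (HTop.closed (CommRingCat.of D))))) := hmem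
    rwa [hgτ] at h0
  have h1 := generization_mem_sectionComponents_dense g ϖ hϖ σ (pullback.lift_snd _ _ _) hdense hred hspτ
    (hgτ _) hmem'
  rw [hsec] at h1
  refine he ?_
  have h2 : pullback.fst f t (τ (HTop.gen (CommRingCat.of D))) ∈ MoreMor.sectionComponents f s := h1
  rwa [← Scheme.Hom.comp_apply, pullback.lift_fst, hgen] at h2

theorem univOpenAt_of_openImmersion {X Y : Scheme.{u}} (j : X ⟶ Y) [IsOpenImmersion j] (x : X) :
    EGA43.IsUnivOpenAt j x := fun Y' k x' _ U hU => by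
  haveI : IsOpenImmersion (pullback.snd j k) := MorphismProperty.pullback_snd j k ‹_›
  exact (pullback.snd j k).isOpenEmbedding.isOpenMap.image_mem_nhds hU

theorem univOpenAt_of_comp_mono {X Y Z : Scheme.{u}} {f : X ⟶ Y} {j : Y ⟶ Z} [Mono j] {x : X}
    (h : EGA43.IsUnivOpenAt (f ≫ j) x) : EGA43.IsUnivOpenAt f x := by
  refine OpenAt.mk_of_isPullback fun Y' k => ⟨pullback f k, pullback.fst f k, pullback.snd f k,
    IsPullback.of_hasPullback f k, fun p hp => OpenAt.isOpenAt_of_isPullback h (g := k ≫ j) ?_ p hp⟩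
  have : IsPullback k (𝟙 Y') j (k ≫ j) :=
    IsPullback.mk' (by simp) (fun _ _ _ _ h2 => by simpa using h2)
      (fun _ a b hab => ⟨b, (cancel_mono j).1 (by rw [Category.assoc]; exact hab.symm), Category.comp_id b⟩)
  simpa using (IsPullback.of_hasPullback f k).paste_vert this

theorem component_subset_interior_univ {X Y : Scheme.{u}} [IsLocallyNoetherian Y] (f : X ⟶ Y) [LocallyOfFiniteType f]
    (s : Y ⟶ X) (hs : s ≫ f = 𝟙 Y)
    (y : Y) (hA : ∀ x ∈ connectedComponentIn (f ⁻¹' {y}) (s y), EGA43.IsUnivOpenAt f x)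
    (hB : ∀ (K : Type u) [Field K] (t : Spec (CommRingCat.of K) ⟶ Y) (w : ↥(pullback f t)),
      pullback.fst f t w ∈ connectedComponentIn (f ⁻¹' {y}) (s y) → _root_.IsReduced ((pullback f t).presheaf.stalk w)) :
    connectedComponentIn (f ⁻¹' {y}) (s y) ⊆ interior (MoreMor.sectionComponents f s) := by
  classical
  intro x hx
  have hfx : f x = y := (connectedComponentIn_subset (f ⁻¹' {y}) (s y)) hx
  haveI : IsLocallyNoetherian X := LocallyOfFiniteType.isLocallyNoetherian f
  obtain ⟨_, ⟨(V₀ : Y.Opens), hV₀, rfl⟩, hyV₀, -⟩ := Y.isBasis_affineOpens.exists_subset_of_mem_open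
    (Set.mem_univ y) isOpen_univ
  haveI : LocallyOfFiniteType (f.fiberToSpecResidueField y) := MorphismProperty.pullback_snd f _ inferInstance
  haveI : IsLocallyNoetherian (f.fiber y) := LocallyOfFiniteType.isLocallyNoetherian (f.fiberToSpecResidueField y)
  obtain ⟨a, ha⟩ := (f.range_fiberι y).ge (show f (s y) = y by rw [← Scheme.Hom.comp_apply, hs]; rfl)
  obtain ⟨b, hb⟩ := (f.range_fiberι y).ge hfx
  have hcomp : b ∈ connectedComponent a := by
    rw [← ha, ← hb, ← f.range_fiberι y, connectedComponentIn_range (f.fiberι y).isEmbedding,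
      (f.fiberι y).isEmbedding.injective.mem_set_image] at hx
    exact hx
  obtain ⟨F, hF, haF, hbF, hlink⟩ := exists_finite_linking hcomp
  have hchoose : ∀ q : f.fiber y, ∃ W : X.Opens, IsAffineOpen W ∧ f.fiberι y q ∈ W ∧ W ≤ f ⁻¹ᵁ V₀ := by
    intro q
    have hq : f.fiberι y q ∈ f ⁻¹ᵁ V₀ := by
      show f (f.fiberι y q) ∈ V₀
      rw [(f.range_fiberι y).le ⟨q, rfl⟩]
      exact hyV₀
    obtain ⟨_, ⟨W, hW, rfl⟩, hqW, hWV⟩ := X.isBasis_affineOpens.exists_subset_of_mem_open hq (f ⁻¹ᵁ V₀).isOpen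
    exact ⟨W, hW, hqW, hWV⟩
  choose Wq hWaff hqW hWV using hchoose
  let W : X.Opens := ⨆ q ∈ hF.toFinset, Wq q
  have hWmem : ∀ q ∈ F, f.fiberι y q ∈ W := fun q hq =>
    TopologicalSpace.Opens.mem_iSup.2 ⟨q, TopologicalSpace.Opens.mem_iSup.2 ⟨hF.mem_toFinset.2 hq, hqW q⟩⟩
  have hWle : W ≤ f ⁻¹ᵁ V₀ := iSup₂_le fun q _ => hWV q
  have hWc : IsCompact (W : Set X) := by
    have : (W : Set X) = ⋃ q ∈ hF.toFinset, (Wq q : Set X) := by simp [W]
    rw [this]
    exact hF.toFinset.isCompact_biUnion fun q _ => (hWaff q).isCompact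
  obtain ⟨r, hrle, hyr⟩ := hV₀.exists_basicOpen_le (V := s ⁻¹ᵁ W) ⟨y, by
    show s y ∈ W; rw [← ha]; exact hWmem a haF⟩ hyV₀
  let V : Y.Opens := Y.basicOpen r
  let W' : X.Opens := W ⊓ f ⁻¹ᵁ V
  haveI : IsAffine (V : Scheme.{u}) := hV₀.basicOpen r
  have hW'c : IsCompact (W' : Set X) := by
    have : W' = W ⊓ X.basicOpen (f.app V₀ r) := by rw [← Scheme.preimage_basicOpen]
    rw [this]
    obtain ⟨U, hU⟩ : ∃ U : X.Opens, U = W ⊓ X.basicOpen (f.app V₀ r) := ⟨_, rfl⟩
    have hres : U = X.basicOpen (X.presheaf.map (homOfLE hWle).op (f.app V₀ r)) := by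
      rw [hU, Scheme.basicOpen_res]
    rw [← hU, hres]
    exact isCompact_basicOpen X hWc (X.presheaf.map (homOfLE hWle).op (f.app V₀ r))
  let f' : (W' : Scheme.{u}) ⟶ (V : Scheme.{u}) := f.resLE V W' inf_le_right
  haveI : LocallyOfFiniteType f' := by
    haveI : LocallyOfFiniteType (f' ≫ V.ι) := by rw [Scheme.Hom.resLE_comp_ι]; infer_instance
    exact locallyOfFiniteType_of_comp f' V.ι
  haveI : CompactSpace (W' : Scheme.{u}) := isCompact_iff_compactSpace.1 hW'c
  haveI : QuasiCompact f' := (HasAffineProperty.iff_of_isAffine (P := @QuasiCompact)).2 ‹_›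
  haveI : IsLocallyNoetherian (W' : Scheme.{u}) := LocallyOfFiniteType.isLocallyNoetherian W'.ι
  haveI : IsLocallyNoetherian (V : Scheme.{u}) := LocallyOfFiniteType.isLocallyNoetherian V.ι
  haveI : AlgebraicGeometry.IsNoetherian (W' : Scheme.{u}) := {}
  haveI : AlgebraicGeometry.IsNoetherian (V : Scheme.{u}) := {}
  obtain ⟨e', he'⟩ : ∃ e' : (V : Scheme.{u}) ⟶ (W' : Scheme.{u}), e' ≫ W'.ι = V.ι ≫ s :=
    ⟨_, IsOpenImmersion.lift_fac _ _ (by
      rw [Scheme.Opens.range_ι]
      rintro _ ⟨z, rfl⟩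
      refine ⟨hrle z.2, ?_⟩
      show f (s (V.ι z)) ∈ V
      rw [← Scheme.Hom.comp_apply s f, hs]
      exact z.2)⟩
  have he'f : e' ≫ f' = 𝟙 _ := by
    rw [← cancel_mono V.ι, Category.assoc, Scheme.Hom.resLE_comp_ι, ← Category.assoc, he', Category.assoc, hs,
      Category.comp_id, Category.id_comp]
  let y' : (V : Scheme.{u}) := ⟨y, hyr⟩
  have hkey : ∀ z : (W' : Scheme.{u}), f (W'.ι z) = V.ι (f' z) := fun z => by
    rw [← Scheme.Hom.comp_apply, ← Scheme.Hom.comp_apply, Scheme.Hom.resLE_comp_ι]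
  have hes : ∀ q, W'.ι (e' q) = s (V.ι q) := fun q => by rw [← Scheme.Hom.comp_apply, he']; rfl
  have he'q : ∀ q, f' (e' q) = q := fun q => by rw [← Scheme.Hom.comp_apply, he'f]; rfl
  have hin : ∀ q, ⇑W'.ι '' connectedComponentIn (f' ⁻¹' {q}) (e' q) ⊆
      connectedComponentIn (f ⁻¹' {V.ι q}) (s (V.ι q)) := fun q => by
    refine (isPreconnected_connectedComponentIn.image _ W'.ι.continuous.continuousOn).subset_connectedComponentIn
      ⟨_, mem_connectedComponentIn (he'q q), hes q⟩ ?_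
    rintro _ ⟨v, hv, rfl⟩
    show f (W'.ι v) = V.ι q
    rw [hkey, show f' v = q from (connectedComponentIn_subset (⇑f' ⁻¹' {q}) (e' q)) hv]
  have hbW : f.fiberι y b ∈ W' := ⟨hWmem b hbF, by show f (f.fiberι y b) ∈ V; rw [hb, hfx]; exact hyr⟩
  let x' : (W' : Scheme.{u}) := ⟨f.fiberι y b, hbW⟩
  have hxin : x' ∈ connectedComponentIn (f' ⁻¹' {y'}) (e' y') := by
    have hsub : ⇑(f.fiberι y) '' connectedComponentIn (⇑(f.fiberι y) ⁻¹' (W : Set X)) a ⊆
        W'.ι '' (f' ⁻¹' {y'}) := by
      rintro _ ⟨q, hq, rfl⟩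
      have hqy : f (f.fiberι y q) = y := (f.range_fiberι y).le ⟨q, rfl⟩
      have hqW' : f.fiberι y q ∈ W' := ⟨(connectedComponentIn_subset (⇑(f.fiberι y) ⁻¹' (W : Set X)) a) hq, by
        show f (f.fiberι y q) ∈ V; rw [hqy]; exact hyr⟩
      exact ⟨⟨_, hqW'⟩, V.ι.isOpenEmbedding.injective ((hkey _).symm.trans hqy), rfl⟩
    have hb' : b ∈ connectedComponentIn (⇑(f.fiberι y) ⁻¹' (W : Set X)) a :=
      hlink _ (W.isOpen.preimage (f.fiberι y).continuous) fun q hq => hWmem q hq
    have hpre : _root_.IsPreconnected (⇑(W'.ι) ⁻¹' (⇑(f.fiberι y) '' connectedComponentIn (⇑(f.fiberι y) ⁻¹' (W : Set X)) a)) := by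
      rw [← W'.ι.isEmbedding.isInducing.isPreconnected_image,
        Set.image_preimage_eq_of_subset (hsub.trans (Set.image_subset_range _ _))]
      exact isPreconnected_connectedComponentIn.image _ (f.fiberι y).continuous.continuousOn
    refine hpre.subset_connectedComponentIn ?_ ?_
      (show W'.ι x' ∈ ⇑(f.fiberι y) '' connectedComponentIn (⇑(f.fiberι y) ⁻¹' (W : Set X)) a from ⟨b, hb', rfl⟩)
    · exact ⟨a, mem_connectedComponentIn (hWmem a haF), (ha.trans (hes y').symm)⟩
    · intro z hz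
      obtain ⟨z', hz', hzz⟩ := hsub hz
      exact W'.ι.isOpenEmbedding.injective hzz ▸ hz'
  have hint := component_subset_interior_univ_noetherian f' e' he'f y'
    (fun z hz => univOpenAt_of_comp_mono (j := V.ι) (by
      rw [Scheme.Hom.resLE_comp_ι]
      exact OpenAt.univOpenAt_comp (univOpenAt_of_openImmersion _ _) (hA _ (hin y' ⟨z, hz, rfl⟩))))
    (fun K _ t w hw => by
      let k : pullback f' t ⟶ pullback f (t ≫ V.ι) :=
        pullback.map f' t f (t ≫ V.ι) W'.ι (𝟙 _) V.ι (Scheme.Hom.resLE_comp_ι f inf_le_right) (by simp)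
      haveI : IsOpenImmersion k := inferInstance
      haveI : _root_.IsReduced ((pullback f (t ≫ V.ι)).presheaf.stalk (k w)) := by
        refine hB K _ _ ?_
        rw [← Scheme.Hom.comp_apply, pullback.lift_fst, Scheme.Hom.comp_apply]
        exact hin y' ⟨_, hw, rfl⟩
      exact isReduced_stalk_of_openImmersion k w) hxin
  refine mem_interior.2 ⟨W'.ι '' interior (MoreMor.sectionComponents f' e'), ?_,
    W'.ι.isOpenEmbedding.isOpenMap _ isOpen_interior, ⟨x', hint, hb⟩⟩
  rintro _ ⟨z, hz, rfl⟩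
  show W'.ι z ∈ connectedComponentIn (f ⁻¹' {f (W'.ι z)}) (s (f (W'.ι z)))
  rw [hkey]
  exact hin _ ⟨z, interior_subset (s := MoreMor.sectionComponents f' e') hz, rfl⟩

end GrothLib.SecComp6
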