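import Groth.Agent.Lib.SecComp6.Univ.Dvr
import Groth.Agent.Lib.GeomRed6.Fibres

/-!
# Connectedness of the generic fibre of an open morphism with reduced special fibre
-/

set_option autoImplicit false
set_option linter.style.haveILetI false

universe u

open CategoryTheory CategoryTheory.Limits AlgebraicGeometry TopologicalSpace Topology TensorProduct

namespace GrothLib.SecComp6

variable {D : Type u} [CommRing D] [IsDomain D] [IsDiscreteValuationRing D] {X : Scheme.{u}}

/-- Over a discrete valuation ring, with a reduced special fibre, complementary open sets of the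
generic fibre have disjoint closures. -/
theorem disjoint_closure_dvr_of_dense (g : X ⟶ Spec (CommRingCat.of D))
    (hdense : Dense (g ⁻¹' {HTop.gen (CommRingCat.of D)})) (ϖ : D) (hϖ : Irreducible ϖ)
    (hred : IsReduced (pullback g (Spec.map (CommRingCat.ofHom (Ideal.Quotient.mk (Ideal.span {ϖ}))))))
    {C R : Set X} (hC : IsOpen C) (hR : IsOpen R) (hdisj : Disjoint C R)
    (hunion : C ∪ R = g ⁻¹' {HTop.gen (CommRingCat.of D)}) :
    Disjoint (closure C) (closure R) := by
  rw [Set.disjoint_left]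
  intro x hxC hxR
  obtain ⟨_, ⟨(W : X.Opens), hW, rfl⟩, hxW, -⟩ := X.isBasis_affineOpens.exists_subset_of_mem_open
    (Set.mem_univ x) isOpen_univ
  obtain ⟨φ, hφ⟩ := Spec.map_surjective (hW.fromSpec ≫ g)
  letI : Algebra D Γ(X, W) := φ.hom.toAlgebra
  let p := algebraMap D Γ(X, W) ϖ
  let t := Spec.map (CommRingCat.ofHom (Ideal.Quotient.mk (Ideal.span {ϖ})))
  have hredW : IsReduced (pullback (Spec.map φ) t) := by
    let k : pullback (Spec.map φ) t ⟶ pullback g t :=
      pullback.lift (pullback.fst (Spec.map φ) t ≫ hW.fromSpec) (pullback.snd (Spec.map φ) t)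
        (by rw [Category.assoc, ← hφ, pullback.condition])
    have sq : IsPullback (pullback.fst (Spec.map φ) t) k hW.fromSpec (pullback.fst g t) := by
      refine IsPullback.of_bot ?_ (pullback.lift_fst _ _ _).symm (IsPullback.of_hasPullback g t)
      rw [pullback.lift_snd, ← hφ]
      exact IsPullback.of_hasPullback _ _
    haveI : IsOpenImmersion k := MorphismProperty.of_isPullback sq (inferInstance : IsOpenImmersion hW.fromSpec)
    exact isReduced_of_isOpenImmersion k
  have hq : _root_.IsReduced (Γ(X, W) ⧸ Ideal.span {p}) := by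
    haveI h1 : IsReduced (Spec (CommRingCat.of (Γ(X, W) ⊗[D] (D ⧸ Ideal.span {ϖ})))) :=
      haveI := hredW
      isReduced_of_isOpenImmersion (pullbackSpecIso D Γ(X, W) (D ⧸ Ideal.span {ϖ})).inv
    haveI h2 : _root_.IsReduced (Γ(X, W) ⊗[D] (D ⧸ Ideal.span {ϖ})) := affine_isReduced_iff _ |>.1 h1
    let e := Algebra.TensorProduct.quotIdealMapEquivTensorQuot Γ(X, W) (Ideal.span {ϖ})
    rw [show Ideal.span {p} = (Ideal.span {ϖ}).map (algebraMap D Γ(X, W)) by
      rw [Ideal.map_span, Set.image_singleton]]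
    exact isReduced_of_injective e e.injective
  have hgen : ∀ q, g (hW.fromSpec q) = HTop.gen (CommRingCat.of D) ↔ q ∈ PrimeSpectrum.basicOpen p := by
    intro q
    rw [← Scheme.Hom.comp_apply, ← hφ, eq_gen_iff ϖ hϖ]
    exact Iff.rfl
  have hpre : ⇑hW.fromSpec ⁻¹' (g ⁻¹' {HTop.gen (CommRingCat.of D)}) =
      (PrimeSpectrum.basicOpen p : Set (PrimeSpectrum Γ(X, W))) := Set.ext fun q => hgen q
  have hdense' : PrimeSpectrum.zeroLocus {p} ⊆ closure (PrimeSpectrum.basicOpen p : Set (PrimeSpectrum Γ(X, W))) := by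
    rw [← hpre]
    exact fun q _ => hdense.preimage hW.fromSpec.isOpenEmbedding.isOpenMap q
  have hdis := disjoint_closure_spec_of_dense hq hdense' (hC.preimage hW.fromSpec.continuous)
    (hR.preimage hW.fromSpec.continuous) (hdisj.preimage _)
      ((congrArg (⇑hW.fromSpec ⁻¹' ·) hunion).trans (Set.ext fun q => hgen q))
  obtain ⟨q, rfl⟩ := hW.range_fromSpec.ge hxW
  have e := fun T : Set X => hW.fromSpec.isOpenEmbedding.isOpenMap.preimage_closure_eq_closure_preimage
    hW.fromSpec.continuous T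
  exact Set.disjoint_left.1 hdis ((e C).le hxC) ((e R).le hxR)

theorem preconnected_generic_fibre (f : X ⟶ Spec (CommRingCat.of D)) (hopen : IsOpenMap f) [PreconnectedSpace X]
    (a b : Spec (CommRingCat.of D)) (ha : IsClosed ({a} : Set (Spec (CommRingCat.of D))))
    (hb : ∀ z, b ⤳ z) (hred : IsReduced (f.fiber a)) : PreconnectedSpace (f.fiber b) := by
  obtain ⟨ϖ, hϖ⟩ := IsDiscreteValuationRing.exists_irreducible D
  have hbgen : b = HTop.gen (CommRingCat.of D) :=
    ((hb _).antisymm ((PrimeSpectrum.le_iff_specializes (HTop.gen (CommRingCat.of D)) b).1 bot_le)).eq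
  subst hbgen
  let η := HTop.gen (CommRingCat.of D)
  have hop : IsOpen ({η} : Set (Spec (CommRingCat.of D))) := by
    have heq : ({η} : Set (Spec (CommRingCat.of D))) = (PrimeSpectrum.basicOpen ϖ : Set (PrimeSpectrum D)) :=
      Set.ext fun q => eq_gen_iff ϖ hϖ q
    exact heq ▸ (PrimeSpectrum.basicOpen ϖ).2
  have hdense : Dense (f ⁻¹' {η}) := (dense_iff_inter_open).2 fun U hU hne => by
    obtain ⟨x, hx⟩ := hne
    obtain ⟨t, ht, htη⟩ := (((PrimeSpectrum.le_iff_specializes η (f x)).1 bot_le).mem_open (hopen U hU) ⟨x, hx, rfl⟩)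
    exact ⟨t, ht, htη⟩
  haveI hmax : (Ideal.span {ϖ}).IsMaximal := hϖ.maximalIdeal_eq ▸ IsLocalRing.maximalIdeal.isMaximal D
  letI : Field (D ⧸ Ideal.span {ϖ}) := Ideal.Quotient.field _
  let t₀ := Spec.map (CommRingCat.ofHom (Ideal.Quotient.mk (Ideal.span {ϖ})))
  have hred₀ : IsReduced (pullback f t₀) := by
    have hpt : GeomRed6.pt t₀ = a := by
      have h1 : GeomRed6.pt t₀ = IsLocalRing.closedPoint D := PrimeSpectrum.ext (by
        show Ideal.comap (Ideal.Quotient.mk (Ideal.span {ϖ})) (IsLocalRing.maximalIdeal _) = IsLocalRing.maximalIdeal D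
        rw [IsLocalRing.maximalIdeal_eq_bot, ← RingHom.ker_eq_comap_bot, Ideal.mk_ker, hϖ.maximalIdeal_eq])
      rw [h1]
      exact (IsLocalRing.specializes_closedPoint a).mem_closed ha rfl
    subst hpt
    obtain ⟨σ, hσ⟩ := GeomRed6.exists_factor t₀
    haveI : IsClosedImmersion t₀ := IsClosedImmersion.spec_of_surjective _ Ideal.Quotient.mk_surjective
    haveI : IsClosedImmersion σ := by
      haveI : IsClosedImmersion (σ ≫ (Spec (CommRingCat.of D)).fromSpecResidueField (GeomRed6.pt t₀)) := hσ.symm ▸ ‹_›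
      exact IsClosedImmersion.of_comp σ ((Spec (CommRingCat.of D)).fromSpecResidueField (GeomRed6.pt t₀))
    haveI : Subsingleton (Spec ((Spec (CommRingCat.of D)).residueField (GeomRed6.pt t₀))) :=
      inferInstanceAs (Subsingleton (PrimeSpectrum _))
    haveI : Surjective σ := ⟨fun z => ⟨IsLocalRing.closedPoint (D ⧸ Ideal.span {ϖ}), Subsingleton.elim _ _⟩⟩
    haveI : IsIso σ := isIso_of_isClosedImmersion_of_surjective σ
    let π' : pullback f t₀ ⟶ f.fiber (GeomRed6.pt t₀) :=
      pullback.lift (pullback.fst f t₀) (pullback.snd f t₀ ≫ σ) (by rw [Category.assoc, hσ, pullback.condition])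
    have hπ' : IsPullback π' (pullback.snd f t₀) (f.fiberToSpecResidueField (GeomRed6.pt t₀)) σ := by
      refine IsPullback.of_right ?_ (pullback.lift_snd _ _ _) (IsPullback.of_hasPullback _ _)
      rw [show π' ≫ pullback.fst f _ = pullback.fst f t₀ from pullback.lift_fst _ _ _, hσ]
      exact IsPullback.of_hasPullback f t₀
    haveI : IsIso π' := hπ'.isIso_fst_of_isIso
    exact isReduced_of_isOpenImmersion π'
  rw [preconnectedSpace_iff_clopen]
  intro S hS
  have hopemb : IsOpenMap (f.fiberι η) := by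
    refine ((f.fiberι η).isEmbedding.toIsInducing.isOpenMap ?_)
    rw [f.range_fiberι η]
    exact hop.preimage f.continuous
  have hunion : f.fiberι η '' S ∪ f.fiberι η '' Sᶜ = f ⁻¹' {η} := by
    rw [← Set.image_union, Set.union_compl_self, Set.image_univ, f.range_fiberι η]
  have hd := disjoint_closure_dvr_of_dense f hdense ϖ hϖ hred₀ (hopemb _ hS.2) (hopemb _ hS.1.isOpen_compl)
    (Set.disjoint_image_of_injective (f.fiberι η).isEmbedding.injective disjoint_compl_right) hunion
  have hcompl : closure (f.fiberι η '' S) = (closure (f.fiberι η '' Sᶜ))ᶜ := by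
    refine (IsCompl.compl_eq ⟨hd.symm, codisjoint_iff_le_sup.2 ?_⟩).symm
    show (⊤ : Set X) ⊆ closure (f.fiberι η '' Sᶜ) ∪ closure (f.fiberι η '' S)
    rw [← closure_union, Set.union_comm, hunion, hdense.closure_eq]
    exact Set.subset_univ _
  have hclop : IsClopen (closure (f.fiberι η '' S)) :=
    ⟨isClosed_closure, hcompl ▸ isClosed_closure.isOpen_compl⟩
  rcases isClopen_iff.1 hclop with h | h
  · exact Or.inl (Set.image_eq_empty.1 (closure_empty_iff _ |>.1 h))
  · right
    refine Set.eq_univ_of_forall fun z => ?_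
    by_contra hz
    exact Set.disjoint_left.1 hd (h ▸ Set.mem_univ (f.fiberι η z)) (subset_closure ⟨z, hz, rfl⟩)

end GrothLib.SecComp6
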